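import Groth.Agent.L24.InertiaGen.Diag
import Groth.Agent.L24.InertiaGen.Sub
import Groth.Agent.L24.St.InertiaSep
import Groth.Agent.L09.Residual.Exists
import Groth.Agent.L09.FibInertia
import Groth.Agent.S10262

/-!
The locus where a 2-endomorphism into a Deligne-Mumford stack with separated diagonal is trivial.
-/

set_option autoImplicit false
set_option backward.isDefEq.respectTransparency false
set_option backward.isDefEq.respectTransparency.types false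

universe u

open CategoryTheory CategoryTheory.Limits AlgebraicGeometry Opposite AlgSt

noncomputable section

namespace Groth.L09.EndTrans

open Groth.L24.St

variable {S : Scheme.{u}} {𝒳 𝒴 : AlgSt.Cat S}

/-- The neutral section of the inertia of such a stack is open and closed. -/
theorem neutral_clopen (h𝒴 : IsDM Scheme.fppfPrecoverage 𝒴)
    (hΔ : RepByAlgSpWith AlgSp.IsSeparatedMor (FibCat.diag (FibCat.toSelf 𝒴))) :
    RepByAlgSpWith (AlgSp.RepWith @IsClosedImmersion ⊓ AlgSp.RepWith @IsOpenImmersion)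
      (FibCat.inertiaNeutral (FibCat.toSelf 𝒴)) := by
  have hS := isAlgStack_selfOver (S := S)
  have hr := diag_rep1_alg h𝒴.1 hS (FibCat.toSelf 𝒴)
  have hu := Groth.L24.InertiaGen.diag_unramified h𝒴.1.isStack.1 h𝒴.1.diag h𝒴.2
  have hc : IsClosedImm (FibCat.inertiaNeutral (FibCat.toSelf 𝒴)) :=
    ((tfae_inertia_sep h𝒴.1 hS _).out 1 2).1 hΔ
  refine repWith_inf (pBase_repWith _) hc ((neutral_repWith_iff h𝒴.1 hS _).2
    ((diag_repWith_iff_rep1 (pBase_repWith _) (descends_repWith _) hr).2 ?_))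
  exact diag_space_iff (fun V G a hV hG ha =>
    (Groth.Agent.S10262.result (X := ⟨V, hV⟩) (Y := ⟨G, hG⟩) (ObjectProperty.homMk a)).1 ha) hu

/-- Witnesses of open and closed immersions over a scheme are schemes. -/
theorem exists_scheme_witness {k : 𝒳 ⥤ᵇ 𝒴}
    (hk : RepByAlgSpWith (AlgSp.RepWith @IsClosedImmersion ⊓ AlgSp.RepWith @IsOpenImmersion) k) {U : Over S}
    (y : FibCat.overCat U ⥤ᵇ 𝒴) :
    ∃ (W : Over S) (ψ : W ⟶ U) (L : FibCat.overCat W ⥤ᵇ FibCat.fp y k), FibCat.IsEquivOver L ∧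
      Nonempty (BasedFunctor.comp L (FibCat.fpFst y k) ≅ overMap ψ) ∧
        IsClosedImmersion ψ.left ∧ IsOpenImmersion ψ.left := by
  obtain ⟨F, e, he, hc, ho⟩ := hk U y
  obtain ⟨W, snd, fst, sq⟩ := hc.1 (𝟙 ((AlgSp.yon S).obj U))
  have : IsIso fst := sq.isIso_fst_of_isIso
  let L : FibCat.overCat W ⥤ᵇ FibCat.fp y k :=
    BasedFunctor.comp (BasedFunctor.comp (ofOverCat W) (ofSpMap fst)) e
  have hL : FibCat.IsEquivOver L :=
    isEquivOver_comp (isEquivOver_comp (ofOverCat_isEquivOver W) (ofSpMap_isEquivOver _)) he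
  obtain ⟨ψ, hi, hψ⟩ := exists_overMap_iso (BasedFunctor.comp L (FibCat.fpFst y k))
  refine ⟨W, ψ, L, hL, hi, ?_, ?_⟩
  all_goals
    have e1 : (AlgSp.yon S).map ψ = fst ≫ spMapOfOver (BasedFunctor.comp e (FibCat.fpFst y k)) := by
      rw [← hψ, ← spMapOfOver_ofSpMap_comp]; rfl
    refine (AlgSp.repWith_yon_map_iff _ ψ).1 ?_
    rw [e1]
  · exact Groth.L23.repWith_comp (Groth.L23.repWith_of_isIso _) hc
  · exact Groth.L23.repWith_comp (Groth.L23.repWith_of_isIso _) ho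

/-- An open and closed substack containing a dense set of points is everything. -/
theorem exists_iso_lift_of_dense (h𝒳 : FibCat.IsFibGrpd 𝒳.p) (h𝒴 : FibCat.IsFibGrpd 𝒴.p) {k : 𝒳 ⥤ᵇ 𝒴}
    (hk : RepByAlgSpWith (AlgSp.RepWith @IsClosedImmersion ⊓ AlgSp.RepWith @IsOpenImmersion) k)
    {D : Set (Points 𝒴)} (hD : Dense D) (hDk : D ⊆ Set.range (Points.map k)) (η : 𝒴.obj) :
    ∃ (ξ : 𝒳.obj), Nonempty (k.obj ξ ≅ η) := by
  have hpre : ∀ {U : Over S} (y : FibCat.overCat U ⥤ᵇ 𝒴), ∃ (W : Over S) (ψ : W ⟶ U)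
      (L : FibCat.overCat W ⥤ᵇ FibCat.fp y k), Nonempty (BasedFunctor.comp L (FibCat.fpFst y k) ≅ overMap ψ) ∧
        IsClosedImmersion ψ.left ∧ IsOpenImmersion ψ.left ∧
        Points.ofChart y ⁻¹' Set.range (Points.map k) = Set.range ψ.left := by
    intro U y
    obtain ⟨W, ψ, L, hL, ⟨i⟩, hc, ho⟩ := exists_scheme_witness hk y
    refine ⟨W, ψ, L, ⟨i⟩, hc, ho, ?_⟩
    ext t
    constructor
    · rintro ⟨p, hp⟩
      obtain ⟨w, hw, -⟩ := exists_points_fp h𝒳 h𝒴 (overCat_isFibGrpd U) k y (ptOver t) p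
        (by rw [hp, ofChart_eq_map]; rfl)
      obtain ⟨v, rfl⟩ := (bijective_map_of_isEquivOver hL).surjective w
      refine ⟨overPt v, ?_⟩
      refine (overPtEquiv U).symm.injective ?_
      show ptOver (ψ.left (overPt v)) = ptOver t
      rw [← map_overMap_ptOver, ptOver_overPt, ← map_congr i, map_comp_apply, hw]
    · rintro ⟨w, rfl⟩
      refine ⟨Points.map (FibCat.fpSnd y k) (Points.map L (ptOver w)), ?_⟩
      rw [← ofChart_overMap_comp, ofChart_eq_map, Function.comp_apply, ← map_comp_apply, ← map_comp_apply]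
      exact congrFun (map_congr (whiskerL L (FibCat.fpIso y k).symm ≪≫ whiskerR i y)) (ptOver w)
  have hclosed : IsClosed (Set.range (Points.map k)) := by
    refine isOpen_compl_iff.1 (Points.isOpen_iff.2 fun U y _ => ?_)
    obtain ⟨W, ψ, L, -, hc, -, e⟩ := hpre y
    rw [Set.preimage_compl, e]
    exact ψ.left.isClosedEmbedding.isClosed_range.isOpen_compl
  have huniv : Set.range (Points.map k) = Set.univ :=
    Set.univ_subset_iff.1 (hD.closure_eq ▸ hclosed.closure_subset_iff.2 hDk)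
  obtain ⟨y, φ, hφ⟩ := exists_overCat_functor h𝒴 η rfl
  obtain ⟨W, ψ, L, ⟨i⟩, hc, ho, e⟩ := hpre y
  rw [huniv, Set.preimage_univ] at e
  have : Surjective ψ.left := ⟨fun t => (Set.ext_iff.1 e t).1 trivial⟩
  have : IsIso ψ.left := isIso_of_isOpenImmersion_of_opensRange_eq_top _ (TopologicalSpace.Opens.ext e.symm)
  have : IsIso ((Over.forget S).map ψ) := (inferInstance : IsIso ψ.left)
  have : IsIso ψ := isIso_of_reflects_iso ψ (Over.forget S)
  let o := L.obj (Over.mk (inv ψ))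
  exact ⟨o.obj.snd, ⟨o.obj.iso.symm ≪≫ y.toFunctor.mapIso
    (appIso i (Over.mk (inv ψ)) ≪≫ eqToIso (congrArg Over.mk (IsIso.inv_hom_id ψ))) ≪≫ φ⟩⟩

variable {F : 𝒳 ⥤ᵇ 𝒴}

/-- A 2-endomorphism read as a functor to the inertia. -/
def toInertia (h𝒴 : FibCat.IsFibGrpd 𝒴.p) (α : F ⟶ F) : 𝒳 ⥤ᵇ FibCat.inertia (FibCat.toSelf 𝒴) where
  toFunctor :=
    { obj := fun ξ =>
        have : 𝒴.p.IsHomLift (𝟙 (𝒴.p.obj (F.obj ξ))) (α.toNatTrans.app ξ) := overId_app α ξ
        have := L09.Fib.isIso_of_isFibGrpd _ h𝒴 (𝟙 (𝒴.p.obj (F.obj ξ))) (α.toNatTrans.app ξ)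
        ⟨F.obj ξ, asIso (α.toNatTrans.app ξ), by
          obtain ⟨e, he⟩ := (overId_app α ξ).eq
          exact he.trans (eqToHom_refl _ _)⟩
      map := fun m => ⟨F.map m, (α.toNatTrans.naturality m).symm⟩
      map_id := fun ξ => FibCat.InertiaObj.hom_ext (F.toFunctor.map_id ξ)
      map_comp := fun m m' => FibCat.InertiaObj.hom_ext (F.toFunctor.map_comp m m') }
  w := F.w

theorem app_eq_id (h𝒳 : FibCat.IsFibGrpd 𝒳.p) (h𝒴 : IsDM Scheme.fppfPrecoverage 𝒴)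
    (hΔ : RepByAlgSpWith AlgSp.IsSeparatedMor (FibCat.diag (FibCat.toSelf 𝒴))) (α : F ⟶ F)
    {D : Set (Points 𝒳)} (hD : Dense D)
    (hDα : ∀ p ∈ D, ∃ r : FPt 𝒳, Points.mk r = p ∧ α.toNatTrans.app r.obj = 𝟙 _) (ξ : 𝒳.obj) :
    α.toNatTrans.app ξ = 𝟙 _ := by
  let a := toInertia h𝒴.1.isStack.1 α
  let n := FibCat.inertiaNeutral (FibCat.toSelf 𝒴)
  have hS := isAlgStack_selfOver (S := S)
  have hI : FibCat.IsFibGrpd (FibCat.inertia (FibCat.toSelf 𝒴)).p :=
    L09.Fib.inertia_isFibGrpd h𝒴.1.isStack.1 hS.isStack.1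
  obtain ⟨z, ⟨iz⟩⟩ := exists_iso_lift_of_dense (L09.Fib.fp_isFibGrpd h𝒳 h𝒴.1.isStack.1 hI) h𝒳
    (repWith_fpFst a (neutral_clopen h𝒴 hΔ) : RepByAlgSpWith _ (FibCat.fpFst a n)) hD (fun p hp => by
      obtain ⟨r, rfl, hr⟩ := hDα p hp
      have c1 : α.toNatTrans.app r.obj ≫ 𝟙 _ = 𝟙 _ ≫ 𝟙 (F.obj r.obj) := by rw [hr]
      have c2 : 𝟙 (F.obj r.obj) ≫ α.toNatTrans.app r.obj = 𝟙 _ ≫ 𝟙 (F.obj r.obj) := by rw [hr]
      let k : a.obj r.obj ≅ n.obj (F.obj r.obj) :=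
        ⟨⟨𝟙 (F.obj r.obj), c1⟩, ⟨𝟙 (F.obj r.obj), c2.symm⟩,
          FibCat.InertiaObj.hom_ext (Category.id_comp _), FibCat.InertiaObj.hom_ext (Category.id_comp _)⟩
      have hk : OverId k.hom := OverId.of_eq rfl (𝒴.p.map_id _)
      exact ⟨Points.mk { K := r.K, str := r.str, obj := fpObj r.obj (F.obj r.obj) k hk, lies := r.lies }, rfl⟩) ξ
  have h1 : α.toNatTrans.app z.obj.fst = 𝟙 _ := by
    have hc : α.toNatTrans.app z.obj.fst ≫ z.obj.iso.hom.hom = z.obj.iso.hom.hom ≫ 𝟙 _ := z.obj.iso.hom.comm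
    have : IsIso z.obj.iso.hom.hom :=
      (inferInstance : IsIso ((FibCat.InertiaObj.forget (F := FibCat.toSelf 𝒴)).map z.obj.iso.hom))
    rw [Category.comp_id] at hc
    exact (cancel_mono z.obj.iso.hom.hom).1 (hc.trans (Category.id_comp _).symm)
  let m : z.obj.fst ≅ ξ := iz
  have h2 : F.map m.hom ≫ α.toNatTrans.app ξ = α.toNatTrans.app z.obj.fst ≫ F.map m.hom :=
    α.toNatTrans.naturality m.hom
  rw [h1, Category.id_comp] at h2
  exact (cancel_epi (F.map m.hom)).1 (h2.trans (Category.comp_id _).symm)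

end Groth.L09.EndTrans
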