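import Groth.Agent.L24.St.InertiaDM
import Groth.Agent.L24.Boot.LqfBase
import Groth.Agent.L24.Tors.Glue
import Groth.Agent.L25.Unramified
import Groth.Agent.L23.EtaleMono
import Mathlib.AlgebraicGeometry.Morphisms.FlatMono
import Mathlib.AlgebraicGeometry.Morphisms.LocalFlatDescent

/-!
A morphism to a scheme whose geometric fibres are points is a monomorphism.
-/

set_option autoImplicit false
set_option backward.isDefEq.respectTransparency false
set_option backward.isDefEq.respectTransparency.types false

universe u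

open CategoryTheory CategoryTheory.Limits AlgebraicGeometry Opposite AlgSp

noncomputable section

namespace Groth.L09.GeomStab

variable {S : Scheme.{u}}

theorem mono_of_geomFibres {F : Sp S} (hF : IsAlgSpace F) {U : Over S} (b : F ⟶ (yon S).obj U)
    (hb : LocP @LocallyOfFiniteType b)
    (hg : ∀ (k : Type u) [Field k] [IsAlgClosed k] (str : Spec (CommRingCat.of k) ⟶ S) (t : Over.mk str ⟶ U),
      IsIso (pullback.snd b ((yon S).map t))) : Mono b := by
  obtain ⟨W, π, hπ, hπs⟩ := hF.atlas
  obtain ⟨g, hgπ⟩ := (yon S).map_surjective (π ≫ b)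
  have hlft : LocallyOfFiniteType g.left :=
    hb π (𝟙 _) g hπ (repWith_id _ U) (by rw [Category.comp_id, hgπ])
  have lifts : ∀ (k : Type u) [Field k] [IsAlgClosed k] (str : Spec (CommRingCat.of k) ⟶ S)
      (l₁ l₂ : Over.mk str ⟶ W), l₁ ≫ g = l₂ ≫ g → (yon S).map l₁ ≫ π = (yon S).map l₂ ≫ π := by
    intro k _ _ str l₁ l₂ h
    have := hg k str (l₁ ≫ g)
    let σ : ∀ (l : Over.mk str ⟶ W), l ≫ g = l₁ ≫ g →
        ((yon S).obj (Over.mk str) ⟶ pullback b ((yon S).map (l₁ ≫ g))) := fun l hl =>
      pullback.lift ((yon S).map l ≫ π) (𝟙 _) (by rw [Category.assoc, ← hgπ, ← Functor.map_comp, hl, Category.id_comp])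
    have e : σ l₁ rfl = σ l₂ h.symm := (cancel_mono (pullback.snd b ((yon S).map (l₁ ≫ g)))).1
      ((pullback.lift_snd _ _ _).trans (pullback.lift_snd _ _ _).symm)
    have := congrArg (fun m => m ≫ pullback.fst b _) e
    exact (pullback.lift_fst _ _ _).symm.trans (this.trans (pullback.lift_fst _ _ _))
  have hfu : FormallyUnramified g.left := by
    refine Groth.L25.Unramified.formallyUnramified_of_fibres g.left fun y => ?_
    let κ := U.left.residueField y
    let k := AlgebraicClosure κ
    let q : Spec (CommRingCat.of k) ⟶ Spec κ := Spec.map (CommRingCat.ofHom (algebraMap κ k))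
    let t : Over.mk ((q ≫ U.left.fromSpecResidueField y) ≫ U.hom) ⟶ U :=
      Over.homMk (q ≫ U.left.fromSpecResidueField y) rfl
    have : IsIso (pullback.snd b ((yon S).map t)) := hg k _ t
    let T : Over S := Over.mk ((q ≫ U.left.fromSpecResidueField y) ≫ U.hom)
    have sT : IsPullback (pullback.fst b ((yon S).map t)) (pullback.snd b ((yon S).map t)) b ((yon S).map t) :=
      IsPullback.of_hasPullback _ _
    let σ : (yon S).obj T ⟶ F := inv (pullback.snd b ((yon S).map t)) ≫ pullback.fst b _
    have sσ : IsPullback σ (𝟙 _) b ((yon S).map t) :=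
      IsPullback.of_iso sT (asIso (pullback.snd b ((yon S).map t))) (Iso.refl _) (Iso.refl _) (Iso.refl _)
        (by simp [σ]) (by simp) (by simp) (by simp)
    obtain ⟨E, e₁, e₂, sq⟩ := Groth.L23.exists_isPullback_of_representable hπ.1 σ
    have he : Etale e₂.left := Groth.L23.repWith_prop hπ sq
    have sq' : IsPullback ((yon S).map e₁) ((yon S).map e₂) ((yon S).map g) ((yon S).map t) := by
      have := sq.paste_vert sσ
      rw [Category.comp_id, ← hgπ] at this
      exact this
    have sqO : IsPullback e₁ e₂ g t := IsPullback.of_map (yon S) ((yon S).map_injective (by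
      rw [Functor.map_comp, Functor.map_comp]; exact sq'.w)) sq'
    have sqS := sqO.map (Over.forget S)
    have sfib : IsPullback (g.left.fiberι y) (g.left.fiberToSpecResidueField y) g.left (U.left.fromSpecResidueField y) :=
      IsPullback.of_hasPullback _ _
    have hl := IsPullback.of_right (h₁₁ := sfib.lift e₁.left (e₂.left ≫ q) (by
        rw [Category.assoc]; exact sqS.w)) (h₂₁ := q) (by rw [sfib.lift_fst]; exact sqS)
      (sfib.lift_snd _ _ _) sfib
    have hq : Surjective q := ⟨fun z => ⟨(IsLocalRing.closedPoint k : PrimeSpectrum k),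
      Subsingleton.elim (α := PrimeSpectrum κ) _ _⟩⟩
    exact MorphismProperty.of_isPullback_of_descendsAlong (P := @FormallyUnramified)
      (Q := (@Surjective ⊓ @Flat ⊓ @QuasiCompact : MorphismProperty Scheme.{u})) hl.flip
      ⟨⟨hq, inferInstance⟩, inferInstance⟩ (show FormallyUnramified e₂.left from inferInstance)
  obtain ⟨E, e₁, e₂, sq⟩ := Groth.L23.exists_isPullback_of_representable hπ.1 π
  have he₂ : Etale e₂.left := Groth.L23.repWith_prop hπ sq
  have hw : e₁ ≫ g = e₂ ≫ g := (yon S).map_injective (by
    rw [Functor.map_comp, Functor.map_comp, hgπ, ← Category.assoc, sq.w, Category.assoc])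
  let p := pullback.lift (f := g) (g := g) e₁ e₂ hw
  have sqg := (IsPullback.of_hasPullback g g).map (Over.forget S)
  have hp1 : Etale p.left := by
    have hl : LocallyOfFiniteType (pullback.snd g g).left :=
      MorphismProperty.of_isPullback (P := @LocallyOfFiniteType) sqg hlft
    have hu : FormallyUnramified (pullback.snd g g).left :=
      MorphismProperty.of_isPullback (P := @FormallyUnramified) sqg hfu
    have : Etale (p.left ≫ (pullback.snd g g).left) := by
      rw [← Over.comp_left, pullback.lift_snd]; exact he₂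
    exact Etale.of_comp p.left (pullback.snd g g).left
  have hp2 : Surjective p.left := ⟨fun z => by
    let κ := (pullback g g).left.residueField z
    let k := AlgebraicClosure κ
    let q : Spec (CommRingCat.of k) ⟶ Spec κ := Spec.map (CommRingCat.ofHom (algebraMap κ k))
    let m : Over.mk ((q ≫ (pullback g g).left.fromSpecResidueField z) ≫ (pullback g g).hom) ⟶ pullback g g :=
      Over.homMk (q ≫ (pullback g g).left.fromSpecResidueField z) rfl
    have h := lifts k _ (m ≫ pullback.fst g g) (m ≫ pullback.snd g g)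
      (by simp only [Category.assoc, pullback.condition])
    obtain ⟨r, hr⟩ := (yon S).map_surjective (sq.lift _ _ h)
    have hr1 : r ≫ p = m := pullback.hom_ext
      ((Category.assoc _ _ _).trans ((congrArg (r ≫ ·) (pullback.lift_fst _ _ _)).trans
        ((yon S).map_injective (by rw [Functor.map_comp, hr, sq.lift_fst]))))
      ((Category.assoc _ _ _).trans ((congrArg (r ≫ ·) (pullback.lift_snd _ _ _)).trans
        ((yon S).map_injective (by rw [Functor.map_comp, hr, sq.lift_snd]))))
    refine ⟨r.left (IsLocalRing.closedPoint k : PrimeSpectrum k), ?_⟩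
    rw [← Scheme.Hom.comp_apply, ← Over.comp_left, hr1]
    show (pullback g g).left.fromSpecResidueField z (q _) = z
    exact Scheme.fromSpecResidueField_apply _ _⟩
  have hp3 : Mono p.left := by
    have : Mono p := ⟨fun {Z} a c h => (yon S).map_injective (sq.hom_ext
      (by rw [← Functor.map_comp, ← Functor.map_comp]; exact congrArg _ (by
        simpa [p] using congrArg (fun s => s ≫ pullback.fst g g) h))
      (by rw [← Functor.map_comp, ← Functor.map_comp]; exact congrArg _ (by
        simpa [p] using congrArg (fun s => s ≫ pullback.snd g g) h)))⟩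
    exact inferInstanceAs (Mono ((Over.forget S).map p))
  have : IsIso p.left := by
    have : IsOpenImmersion p.left := IsOpenImmersion.of_flat_of_mono p.left
    exact (isIso_iff_isOpenImmersion_and_epi_base _).mpr ⟨inferInstance, (TopCat.epi_iff_surjective _).mpr hp2.surj⟩
  have : IsIso ((Over.forget S).map p) := this
  have : IsIso p := isIso_of_reflects_iso p (Over.forget S)
  refine ⟨fun {Z} x y h => Groth.L23.hom_ext_yon fun T s => ?_⟩
  obtain ⟨X₁, l₁, c₁, s₁⟩ := Groth.L23.exists_isPullback_of_representable hπ.1 (s ≫ x)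
  obtain ⟨X₂, l₂, c₂, s₂⟩ := Groth.L23.exists_isPullback_of_representable hπ.1 (((yon S).map c₁ ≫ s) ≫ y)
  have het₁ : Etale c₁.left := Groth.L23.repWith_prop hπ s₁
  have het₂ : Etale c₂.left := Groth.L23.repWith_prop hπ s₂
  have hs₁ : Surjective c₁.left := Groth.L23.repWith_prop hπs s₁
  have hs₂ : Surjective c₂.left := Groth.L23.repWith_prop hπs s₂
  let c := c₂ ≫ c₁
  have : Flat c.left := inferInstanceAs (Flat (c₂.left ≫ c₁.left))
  have : LocallyOfFinitePresentation c.left := inferInstanceAs (LocallyOfFinitePresentation (c₂.left ≫ c₁.left))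
  have : Surjective c.left := inferInstanceAs (Surjective (c₂.left ≫ c₁.left))
  have key : (yon S).map c ≫ (s ≫ x) = (yon S).map c ≫ (s ≫ y) := by
    have e1 : (yon S).map c ≫ (s ≫ x) = (yon S).map (c₂ ≫ l₁) ≫ π := by
      rw [Functor.map_comp, Functor.map_comp, Category.assoc, Category.assoc, s₁.w]
    have e2 : (yon S).map c ≫ (s ≫ y) = (yon S).map l₂ ≫ π := by
      rw [s₂.w]
      simp [c, Category.assoc]
    have e3 : (c₂ ≫ l₁) ≫ g = l₂ ≫ g := (yon S).map_injective (by
      calc (yon S).map ((c₂ ≫ l₁) ≫ g) = ((yon S).map c ≫ (s ≫ x)) ≫ b := by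
            rw [e1, (yon S).map_comp (c₂ ≫ l₁) g, hgπ, Category.assoc]
        _ = ((yon S).map c ≫ (s ≫ y)) ≫ b := by simp only [Category.assoc, h]
        _ = (yon S).map (l₂ ≫ g) := by rw [e2, (yon S).map_comp l₂ g, hgπ, Category.assoc])
    let r := pullback.lift (c₂ ≫ l₁) l₂ e3 ≫ inv p
    have r1 : r ≫ e₁ = c₂ ≫ l₁ := by
      simp [r, show e₁ = p ≫ pullback.fst g g from (pullback.lift_fst _ _ _).symm]
    have r2 : r ≫ e₂ = l₂ := by
      simp [r, show e₂ = p ≫ pullback.snd g g from (pullback.lift_snd _ _ _).symm]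
    refine e1.trans (Eq.trans ?_ e2.symm)
    rw [← congrArg (yon S).map r1, ← congrArg (yon S).map r2, (yon S).map_comp r e₁, (yon S).map_comp r e₂,
      Category.assoc, Category.assoc, sq.w]
  refine Groth.L24.Tors.hom_ext_sieve (Groth.L24.Boot.fppf_mem_J c) fun V v hv => ?_
  obtain ⟨_, a, _, ⟨_⟩, rfl⟩ := hv
  rw [Functor.map_comp, Category.assoc, Category.assoc, key]

end Groth.L09.GeomStab
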