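import Groth.Agent.L09.Residual.Exists
import Mathlib.RingTheory.Spectrum.Prime.Chevalley
import Mathlib.RingTheory.Flat.TorsionFree
import Mathlib.RingTheory.PolynomialAlgebra
import Mathlib.FieldTheory.IsAlgClosed.Basic

/-!
A scheme locally of finite type over a field `κ` with a second map to `Spec κ` cannot surject onto all
pairs of embeddings over an algebraically closed subfield, unless the two fields agree; structure maps of
objects of categories over slices.
-/

set_option autoImplicit false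
set_option backward.isDefEq.respectTransparency false
set_option backward.isDefEq.respectTransparency.types false

universe u

open CategoryTheory CategoryTheory.Limits AlgebraicGeometry Polynomial

noncomputable section

namespace Groth.L09.RatPt

section Algebra

open TensorProduct

variable {k κ : Type u} [Field k] [IsAlgClosed k] [Field κ] [Algebra k κ]

theorem transcendental_of_notMem {τ : κ} (h : τ ∉ Set.range (algebraMap k κ)) : Transcendental k τ := fun ha =>
  h (RingHom.mem_range.1 (minpoly.mem_range_of_degree_eq_one k τ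
    (IsAlgClosed.degree_eq_one_of_irreducible k (minpoly.irreducible ha.isIntegral))))

theorem exists_transcendental_pair {τ : κ} (h : τ ∉ Set.range (algebraMap k κ)) :
    ∃ (L : Type u) (_ : Field L) (i₁ i₂ : κ →+* L), i₁.comp (algebraMap k κ) = i₂.comp (algebraMap k κ) ∧
      ∀ P : κ[X], P ≠ 0 → P.eval₂ i₁ (i₂ τ) ≠ 0 := by
  let g : κ[X] →ₐ[k] κ ⊗[k] κ :=
    (Algebra.TensorProduct.map (AlgHom.id k κ) (aeval τ)).comp (polyEquivTensor k κ).toAlgHom
  have hg : Function.Injective g := (Module.Flat.lTensor_preserves_injective_linearMap (M := κ)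
    (aeval (R := k) τ).toLinearMap (transcendental_iff_injective.1 (transcendental_of_notMem h))).comp
      (polyEquivTensor k κ).injective
  have hgP : g.toRingHom =
      eval₂RingHom Algebra.TensorProduct.includeLeftRingHom ((1 : κ) ⊗ₜ[k] τ) := by
    refine Polynomial.ringHom_ext (fun a => ?_) ?_ <;> simp [g, polyEquivTensor_apply]
  obtain ⟨q, hq, hq'⟩ := Ideal.exists_comap_eq_of_mem_minimalPrimes_of_injective (f := g.toRingHom) hg ⊥
    ⟨⟨Ideal.isPrime_bot, bot_le⟩, fun p _ _ => bot_le⟩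
  let π : κ ⊗[k] κ →+* FractionRing (κ ⊗[k] κ ⧸ q) :=
    (algebraMap (κ ⊗[k] κ ⧸ q) _).comp (Ideal.Quotient.mk q)
  refine ⟨FractionRing (κ ⊗[k] κ ⧸ q), inferInstance, π.comp Algebra.TensorProduct.includeLeftRingHom,
    π.comp Algebra.TensorProduct.includeRight.toRingHom, ?_, fun P hP h0 => hP ?_⟩
  · ext c
    simp only [RingHom.comp_apply]
    congr 1
    exact ((Algebra.TensorProduct.includeLeft : κ →ₐ[k] κ ⊗[k] κ).commutes c).trans
      ((Algebra.TensorProduct.includeRight : κ →ₐ[k] κ ⊗[k] κ).commutes c).symm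
  · have h1 : π (g.toRingHom P) = 0 := by
      rw [hgP, coe_eval₂RingHom, hom_eval₂]
      exact h0
    have h2 : g.toRingHom P ∈ q := Ideal.Quotient.eq_zero_iff_mem.1
      ((IsFractionRing.injective (κ ⊗[k] κ ⧸ q) (FractionRing (κ ⊗[k] κ ⧸ q))) (h1.trans (map_zero _).symm))
    have h3 : P ∈ q.comap g.toRingHom := h2
    rwa [hq'] at h3

theorem exists_not_isUnit {A : Type u} [CommRing A] [Algebra κ A] [Algebra.FiniteType κ A] {L : Type u} [Field L]
    (χ : A →+* L) (t : A) (ht : ∀ P : κ[X], P ≠ 0 → P.eval₂ (χ.comp (algebraMap κ A)) (χ t) ≠ 0) :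
    ∃ c : k, ¬ IsUnit (t - algebraMap κ A (algebraMap k κ c)) := by
  let J := RingHom.ker χ
  have : J.IsPrime := RingHom.ker_isPrime χ
  have : Algebra.FiniteType κ (A ⧸ J) :=
    Algebra.FiniteType.of_surjective (Ideal.Quotient.mkₐ κ J) Ideal.Quotient.mk_surjective
  let φ : κ[X] →ₐ[κ] A ⧸ J := aeval (Ideal.Quotient.mk J t)
  have hφ : Function.Injective φ := by
    refine (injective_iff_map_eq_zero φ).2 fun P hP => ?_
    by_contra hne
    refine ht P hne ?_
    have := congrArg (Ideal.Quotient.lift J χ fun a ha => ha) hP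
    rw [map_zero, aeval_def, hom_eval₂] at this
    exact this
  let := φ.toRingHom.toAlgebra
  have : IsScalarTower κ κ[X] (A ⧸ J) := IsScalarTower.of_algebraMap_eq fun c => (φ.commutes c).symm
  have : Algebra.FiniteType κ[X] (A ⧸ J) := Algebra.FiniteType.of_restrictScalars_finiteType κ κ[X] (A ⧸ J)
  have : Algebra.FinitePresentation κ[X] (A ⧸ J) := Algebra.FinitePresentation.of_finiteType.1 this
  have : FaithfulSMul κ[X] (A ⧸ J) := (faithfulSMul_iff_algebraMap_injective κ[X] (A ⧸ J)).2 hφ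
  have : Module.IsTorsionFree κ[X] (A ⧸ J) := Module.isTorsionFree_iff_faithfulSMul.2 this
  have : Module.Flat κ[X] (A ⧸ J) := Module.Flat.flat_iff_torsion_eq_bot_of_isBezout.2
    (Submodule.isTorsionFree_iff_torsion_eq_bot.1 this)
  let f := algebraMap κ[X] (A ⧸ J)
  have ho : IsOpen (Set.range (PrimeSpectrum.comap f)) := by
    rw [← Set.image_univ]
    exact PrimeSpectrum.isOpenMap_comap_of_hasGoingDown_of_finitePresentation _ isOpen_univ
  let p₀ : PrimeSpectrum κ[X] := ⟨⊥, Ideal.isPrime_bot⟩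
  have hp₀ : p₀ ∈ Set.range (PrimeSpectrum.comap f) :=
    ⟨⟨⊥, Ideal.isPrime_bot⟩, PrimeSpectrum.ext ((RingHom.injective_iff_ker_eq_bot f).1 hφ)⟩
  obtain ⟨_, ⟨F, rfl⟩, hF₀, hFsub⟩ :=
    PrimeSpectrum.isTopologicalBasis_basic_opens.exists_subset_of_mem_open hp₀ ho
  have hF : F ≠ 0 := fun e => hF₀ (by rw [e]; exact zero_mem _)
  classical
  obtain ⟨c, hc⟩ := Infinite.exists_notMem_finset
    (F.roots.toFinset.preimage (algebraMap k κ) (algebraMap k κ).injective.injOn)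
  have hcF : F.eval (algebraMap k κ c) ≠ 0 := fun e => hc (by simpa [hF] using e)
  let ev := evalRingHom (algebraMap k κ c)
  obtain ⟨Q, hQ⟩ := hFsub (show (⟨RingHom.ker ev, RingHom.ker_isPrime ev⟩ : PrimeSpectrum κ[X]) ∈
    PrimeSpectrum.basicOpen F from hcF)
  refine ⟨c, fun hu => ?_⟩
  have hm : (X - C (algebraMap k κ c)) ∈ (PrimeSpectrum.comap f Q).asIdeal := by
    rw [hQ]; simp [ev]
  have hm' : φ (X - C (algebraMap k κ c)) ∈ Q.asIdeal := hm
  refine Q.2.ne_top (Ideal.eq_top_of_isUnit_mem _ hm' ?_)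
  have := hu.map (Ideal.Quotient.mk J)
  rw [map_sub] at this
  rw [map_sub, aeval_X, aeval_C]
  exact this

end Algebra

/-- If all pairs of embeddings are dominated by a scheme locally of finite type over the first factor,
the fields coincide. -/
theorem surjective_algebraMap {k κ : Type u} [Field k] [IsAlgClosed k] [Field κ] [Algebra k κ] {V : Scheme.{u}}
    (q₁ q₂ : V ⟶ Spec (CommRingCat.of κ)) [LocallyOfFiniteType q₁]
    (hq : q₁ ≫ Spec.map (CommRingCat.ofHom (algebraMap k κ)) = q₂ ≫ Spec.map (CommRingCat.ofHom (algebraMap k κ)))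
    (hs : ∀ (L : Type u) [Field L] (p₁ p₂ : Spec (CommRingCat.of L) ⟶ Spec (CommRingCat.of κ)),
      p₁ ≫ Spec.map (CommRingCat.ofHom (algebraMap k κ)) = p₂ ≫ Spec.map (CommRingCat.ofHom (algebraMap k κ)) →
      ∃ (L' : Type u) (_ : Field L') (j : Spec (CommRingCat.of L') ⟶ Spec (CommRingCat.of L))
        (h : Spec (CommRingCat.of L') ⟶ V), h ≫ q₁ = j ≫ p₁ ∧ h ≫ q₂ = j ≫ p₂) :
    Function.Surjective (algebraMap k κ) := by
  by_contra hns
  obtain ⟨τ, hτ⟩ := not_forall.1 hns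
  obtain ⟨L, _, i₁, i₂, hi, htr⟩ := exists_transcendental_pair (k := k) (τ := τ) hτ
  obtain ⟨L', _, j, h, h₁, h₂⟩ := hs L (Spec.map (CommRingCat.ofHom i₁)) (Spec.map (CommRingCat.ofHom i₂)) (by
    rw [← Spec.map_comp, ← Spec.map_comp, ← CommRingCat.ofHom_comp, ← CommRingCat.ofHom_comp, hi])
  obtain ⟨j', rfl⟩ : ∃ j', Spec.map j' = j := ⟨_, Spec.map_preimage j⟩
  let z : ↥(Spec (CommRingCat.of L')) := (IsLocalRing.closedPoint L' : PrimeSpectrum L')
  obtain ⟨A, o, ho, hmem, -⟩ := Scheme.exists_affine_mem_range_and_range_subset (x := h z) (U := ⊤) trivial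
  have hr : Set.range h ⊆ Set.range o := by
    rintro _ ⟨w, rfl⟩
    rwa [Subsingleton.elim (α := PrimeSpectrum L') w z]
  obtain ⟨χ, hχ⟩ : ∃ χ, Spec.map χ = IsOpenImmersion.lift o h hr := ⟨_, Spec.map_preimage _⟩
  have hχo : Spec.map χ ≫ o = h := by rw [hχ, IsOpenImmersion.lift_fac]
  obtain ⟨φ₁, hφ₁⟩ : ∃ φ₁, Spec.map φ₁ = o ≫ q₁ := ⟨_, Spec.map_preimage _⟩
  obtain ⟨φ₂, hφ₂⟩ : ∃ φ₂, Spec.map φ₂ = o ≫ q₂ := ⟨_, Spec.map_preimage _⟩
  have hft : φ₁.hom.FiniteType := (HasRingHomProperty.Spec_iff (P := @LocallyOfFiniteType)).1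
    (hφ₁ ▸ (inferInstance : LocallyOfFiniteType (o ≫ q₁)))
  let := φ₁.hom.toAlgebra
  have : Algebra.FiniteType κ A := hft
  have e₁ : χ.hom.comp φ₁.hom = j'.hom.comp i₁ := by
    refine congrArg CommRingCat.Hom.hom (Spec.map_injective (?_ : Spec.map (φ₁ ≫ χ) =
      Spec.map (CommRingCat.ofHom i₁ ≫ j')))
    rw [Spec.map_comp, Spec.map_comp, hφ₁, ← Category.assoc, hχo, h₁]
  have e₂ : χ.hom.comp φ₂.hom = j'.hom.comp i₂ := by
    refine congrArg CommRingCat.Hom.hom (Spec.map_injective (?_ : Spec.map (φ₂ ≫ χ) =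
      Spec.map (CommRingCat.ofHom i₂ ≫ j')))
    rw [Spec.map_comp, Spec.map_comp, hφ₂, ← Category.assoc, hχo, h₂]
  have e : φ₁.hom.comp (algebraMap k κ) = φ₂.hom.comp (algebraMap k κ) := by
    refine congrArg CommRingCat.Hom.hom (Spec.map_injective
      (?_ : Spec.map (CommRingCat.ofHom (algebraMap k κ) ≫ φ₁) = Spec.map (CommRingCat.ofHom (algebraMap k κ) ≫ φ₂)))
    rw [Spec.map_comp, Spec.map_comp, hφ₁, hφ₂, Category.assoc, Category.assoc, hq]
  have : Infinite k := IsAlgClosed.instInfinite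
  obtain ⟨c, hc⟩ := exists_not_isUnit (k := k) χ.hom (φ₂.hom τ) fun P hP h0 => htr P hP (j'.hom.injective (by
    rw [map_zero, hom_eval₂, ← e₁, ← RingHom.comp_apply, ← e₂, RingHom.comp_apply]
    exact h0))
  refine hc ?_
  show IsUnit (φ₂.hom τ - φ₁.hom.comp (algebraMap k κ) c)
  rw [e, RingHom.comp_apply, ← map_sub]
  exact (Ne.isUnit fun e0 => hτ ⟨c, (sub_eq_zero.1 e0).symm⟩).map φ₂.hom

/-- A nonempty scheme has a locally closed point. -/
theorem exists_isLocallyClosed_singleton (X : Scheme.{u}) [Nonempty ↥X] :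
    ∃ u : ↥X, IsLocallyClosed ({u} : Set ↥X) := by
  obtain ⟨x⟩ := (inferInstance : Nonempty ↥X)
  obtain ⟨A, o, ho, hx, -⟩ := Scheme.exists_affine_mem_range_and_range_subset (x := x) (U := ⊤) trivial
  obtain ⟨a, -⟩ := hx
  obtain ⟨b, -, hb⟩ := (isClosed_univ (X := ↥(Spec A))).exists_closed_singleton ⟨a, trivial⟩
  refine ⟨o b, ?_⟩
  rw [← Set.image_singleton]
  exact hb.isLocallyClosed.image o.isOpenEmbedding.isInducing o.isOpenEmbedding.isOpen_range.isLocallyClosed

section Str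

open AlgSt Groth.L24.St

variable {S : Scheme.{u}} {𝒬 𝒲 : BasedCategory.{u, u + 1} (Over S)} {U V W : Over S}

/-- The morphism to `V` underlying the value of a functor to a slice. -/
def str (Φ : 𝒬 ⥤ᵇ FibCat.overCat V) (q : 𝒬.obj) : 𝒬.p.obj q ⟶ V :=
  eqToHom (Φ.w_obj q).symm ≫ (Φ.obj q).hom

theorem str_w (Φ : 𝒬 ⥤ᵇ FibCat.overCat V) {a b : 𝒬.obj} (m : a ⟶ b) : 𝒬.p.map m ≫ str Φ b = str Φ a := by
  have h := Functor.congr_hom Φ.w m
  change (Φ.map m).left = eqToHom _ ≫ 𝒬.p.map m ≫ eqToHom _ at h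
  have w := Over.w (Φ.map m)
  rw [h] at w
  simp only [str]
  rw [← w]
  simp

theorem str_comp_iso {Φ : 𝒬 ⥤ᵇ FibCat.overCat V} {F : FibCat.overCat W ⥤ᵇ 𝒬} {a : W ⟶ V}
    (i : BasedFunctor.comp F Φ ≅ overMap a) (o : (FibCat.overCat W).obj) :
    str Φ (F.obj o) = eqToHom (F.w_obj o) ≫ o.hom ≫ a := by
  obtain ⟨e, he⟩ := (overId_app i.hom o).eq
  have w := Over.w (i.hom.toNatTrans.app o)
  change (i.hom.toNatTrans.app o).left = eqToHom e at he
  rw [he] at w
  change eqToHom _ ≫ o.hom ≫ a = (Φ.obj (F.obj o)).hom at w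
  simp only [str]
  rw [← w]
  simp

theorem overMap_injective {a b : U ⟶ V} (i : overMap a ≅ overMap b) : a = b := by
  refine (AlgSp.yon S).map_injective ?_
  have h := spMapOfOver_congr (whiskerL (toOverCat U) i)
  simpa only [spMapOfOver_overMap, spMapOfOver_toOverCat, Category.id_comp] using h

/-- A morphism of schemes through which two functors to a fibre product over slices agree on points is surjective. -/
theorem surjective_of_points {Φ₁ : 𝒬 ⥤ᵇ FibCat.overCat U} {Φ₂ : 𝒬 ⥤ᵇ FibCat.overCat V} {R : Over S}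
    {E : FibCat.overCat W ⥤ᵇ 𝒬} {L : FibCat.overCat R ⥤ᵇ 𝒬} {a : W ⟶ U} {b : W ⟶ V} {pr₁ : R ⟶ U} {pr₂ : R ⟶ V}
    (h𝒬 : FibCat.IsFibGrpd 𝒬.p) (hR : ∀ {T : Over S} (g g' : T ⟶ R), g ≫ pr₁ = g' ≫ pr₁ → g ≫ pr₂ = g' ≫ pr₂ → g = g')
    (hE₁ : BasedFunctor.comp E Φ₁ ≅ overMap a) (hE₂ : BasedFunctor.comp E Φ₂ ≅ overMap b)
    (hL₁ : BasedFunctor.comp L Φ₁ ≅ overMap pr₁) (hL₂ : BasedFunctor.comp L Φ₂ ≅ overMap pr₂)
    (c : W ⟶ R) (hc₁ : c ≫ pr₁ = a) (hc₂ : c ≫ pr₂ = b)
    (hs : ∀ w : R.left, ∃ v : W.left, Points.map E (ptOver v) = Points.map L (ptOver w)) : Surjective c.left := by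
  refine ⟨fun w => ?_⟩
  obtain ⟨v, hv⟩ := hs w
  refine ⟨v, ?_⟩
  let ov : (FibCat.overCat W).obj := Over.mk (Over.homMk (W.left.fromSpecResidueField v) rfl :
    Over.mk (W.left.fromSpecResidueField v ≫ W.hom) ⟶ W)
  let ow : (FibCat.overCat R).obj := Over.mk (Over.homMk (R.left.fromSpecResidueField w) rfl :
    Over.mk (R.left.fromSpecResidueField w ≫ R.hom) ⟶ R)
  obtain ⟨r, α, β, -⟩ := (mk_eq_mk_iff h𝒬).1 hv
  change r.obj ⟶ E.obj ov at α
  change r.obj ⟶ L.obj ow at β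
  let h : 𝒬.p.obj r.obj ⟶ W := 𝒬.p.map α ≫ eqToHom (E.w_obj ov) ≫ ov.hom
  let g : 𝒬.p.obj r.obj ⟶ R := 𝒬.p.map β ≫ eqToHom (L.w_obj ow) ≫ ow.hom
  have h1 : h ≫ c = g := by
    refine hR _ _ ?_ ?_
    · have := (str_w Φ₁ α).trans (str_w Φ₁ β).symm
      rw [str_comp_iso hE₁, str_comp_iso hL₁] at this
      simpa [h, g, hc₁] using this
    · have := (str_w Φ₂ α).trans (str_w Φ₂ β).symm
      rw [str_comp_iso hE₂, str_comp_iso hL₂] at this
      simpa [h, g, hc₂] using this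
  let f : Over.mk r.str ⟶ 𝒬.p.obj r.obj := eqToHom r.lies.symm
  let pt : ↥(𝒬.p.obj r.obj).left := f.left (IsLocalRing.closedPoint r.K : PrimeSpectrum r.K)
  have hv' : h.left pt = v := W.left.fromSpecResidueField_apply v _
  have hw' : g.left pt = w := R.left.fromSpecResidueField_apply w _
  rw [← hw', ← h1, ← hv']
  simp

end Str

end Groth.L09.RatPt
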